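import Groth.Agent.Lib.FppfSource.Ring
import Groth.Agent.Lib.Hensel.Noetherian
import Groth.Agent.Lib.LocProp.SmoothDescendScheme
import Mathlib.AlgebraicGeometry.Morphisms.FinitePresentation
import Mathlib.AlgebraicGeometry.Morphisms.Flat
import Mathlib.AlgebraicGeometry.Morphisms.UniversallyOpen
import Mathlib.AlgebraicGeometry.Noetherian

/-!
# Descent of properties of morphisms along fppf covers of the source
-/

universe u

open CategoryTheory Limits AlgebraicGeometry TensorProduct

namespace GrothLib.FppfSource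

/-- `P` can be checked after an fppf cover of the source. -/
def FppfSourceDescends (P : MorphismProperty Scheme.{u}) : Prop :=
  ∀ ⦃X' X Y : Scheme.{u}⦄ (c : X' ⟶ X) (f : X ⟶ Y), Flat c → LocallyOfFinitePresentation c →
    Surjective c → P (c ≫ f) → P f

/-- A compact target of an fppf cover receives an fppf cover from an affine scheme factoring
through it. -/
theorem exists_affine_cover {X' X : Scheme.{u}} [CompactSpace X] (c : X' ⟶ X) [Flat c]
    [LocallyOfFinitePresentation c] [Surjective c] :
    ∃ (T : Scheme.{u}) (p : T ⟶ X'), IsAffine T ∧ Flat p ∧ LocallyOfFinitePresentation p ∧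
      Surjective (p ≫ c) := by
  let 𝒰 := X'.affineCover
  obtain ⟨s, hs⟩ := isCompact_univ.elim_finite_subcover (fun i => Set.range (𝒰.f i ≫ c))
    (fun i => (𝒰.f i ≫ c).isOpenMap.isOpen_range) (fun x _ => by
      obtain ⟨x', rfl⟩ := c.surjective x
      obtain ⟨i, y, rfl⟩ := 𝒰.exists_eq x'
      exact Set.mem_iUnion.2 ⟨i, y, rfl⟩)
  refine ⟨∐ fun i : s => 𝒰.X i.1, Sigma.desc fun i => 𝒰.f i.1, inferInstance, ?_, ?_, ⟨fun x => ?_⟩⟩
  · rw [IsZariskiLocalAtSource.iff_of_openCover (P := @Flat) (sigmaOpenCover _)]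
    intro i
    change Flat (Sigma.ι (fun i : s => 𝒰.X i.1) i ≫ Sigma.desc fun i : s => 𝒰.f i.1)
    rw [Sigma.ι_desc]
    infer_instance
  · rw [IsZariskiLocalAtSource.iff_of_openCover (P := @LocallyOfFinitePresentation) (sigmaOpenCover _)]
    intro i
    change LocallyOfFinitePresentation (Sigma.ι (fun i : s => 𝒰.X i.1) i ≫ Sigma.desc fun i : s => 𝒰.f i.1)
    rw [Sigma.ι_desc]
    infer_instance
  · obtain ⟨i, hi, y, hy⟩ := Set.mem_iUnion₂.1 (hs (Set.mem_univ x))
    refine ⟨Sigma.ι (fun i : s => 𝒰.X i.1) ⟨i, hi⟩ y, ?_⟩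
    rw [← Scheme.Hom.comp_apply, Sigma.ι_desc_assoc]
    exact hy

/-- An fppf map between affine schemes is a faithfully flat finitely presented ring map. -/
theorem appTop_props {T X : Scheme.{u}} [IsAffine T] [IsAffine X] (g : T ⟶ X) [Flat g]
    [LocallyOfFinitePresentation g] [Surjective g] :
    g.appTop.hom.FinitePresentation ∧ g.appTop.hom.FaithfullyFlat := by
  refine ⟨HasRingHomProperty.appTop (P := @LocallyOfFinitePresentation) g inferInstance, ?_⟩
  rw [RingHom.FaithfullyFlat.iff_flat_and_comap_surjective]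
  exact ⟨HasRingHomProperty.appTop (P := @Flat) g inferInstance,
    ((MorphismProperty.arrow_mk_iso_iff @Surjective (arrowIsoSpecΓOfIsAffine g)).1 inferInstance).surj⟩

section

variable (P : MorphismProperty Scheme.{u})
  (Q : ∀ {R S : Type u} [CommRing R] [CommRing S], (R →+* S) → Prop) [HasRingHomProperty P Q]

theorem fppfSourceDescends_of_ringHom [P.IsStableUnderComposition]
    (hle : (@LocallyOfFinitePresentation : MorphismProperty Scheme.{u}) ≤ P)
    (H : ∀ {A B C : Type u} [CommRing A] [CommRing B] [CommRing C] (φ : A →+* B) (ψ : B →+* C),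
      ψ.FinitePresentation → ψ.FaithfullyFlat → Q (ψ.comp φ) → Q φ) : FppfSourceDescends P := by
  intro X' X Y c f hc hc' hs h
  wlog hY : IsAffine Y generalizing X' X Y
  · rw [IsZariskiLocalAtTarget.iff_of_openCover (P := P) Y.affineCover]
    intro i
    change P (pullback.snd f (Y.affineCover.f i))
    refine this (pullback.snd c (pullback.fst f (Y.affineCover.f i))) _ inferInstance inferInstance
      inferInstance ?_ inferInstance
    refine IsZariskiLocalAtTarget.of_isPullback (iY := Y.affineCover.f i)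
      (iX := pullback.fst c (pullback.fst f (Y.affineCover.f i))) ?_ h
    exact (IsPullback.of_hasPullback c (pullback.fst f (Y.affineCover.f i))).paste_vert
      (IsPullback.of_hasPullback f (Y.affineCover.f i))
  wlog hX : IsAffine X generalizing X' X
  · rw [IsZariskiLocalAtSource.iff_of_openCover (P := P) X.affineCover]
    intro i
    change P (X.affineCover.f i ≫ f)
    refine this (pullback.snd c (X.affineCover.f i)) _ inferInstance inferInstance inferInstance ?_
      inferInstance
    rw [← pullback.condition_assoc]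
    exact IsZariskiLocalAtSource.comp h _
  obtain ⟨T, p, hT, hp, hp', hps⟩ := exists_affine_cover c
  have hP : P ((p ≫ c) ≫ f) := by
    rw [Category.assoc]
    exact P.comp_mem _ _ (hle _ _ p hp') h
  rw [HasRingHomProperty.iff_of_isAffine (P := P)] at hP ⊢
  rw [Scheme.Hom.comp_appTop] at hP
  obtain ⟨h1, h2⟩ := appTop_props (p ≫ c)
  exact H _ _ h1 h2 (by simpa using hP)

end

theorem fppfSourceDescends_lft : FppfSourceDescends.{u} @LocallyOfFiniteType := by
  refine fppfSourceDescends_of_ringHom _ RingHom.FiniteType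
    (fun _ _ _ (_ : LocallyOfFinitePresentation _) => inferInstance) ?_
  intro A B C _ _ _ φ ψ he h hf
  algebraize [φ, ψ, ψ.comp φ]
  exact RingHom.finiteType_algebraMap.2 (finiteType (C := C))

theorem fppfSourceDescends_lfp : FppfSourceDescends.{u} @LocallyOfFinitePresentation := by
  refine fppfSourceDescends_of_ringHom _ RingHom.FinitePresentation (fun _ _ _ h => h) ?_
  intro A B C _ _ _ φ ψ he h hf
  algebraize [φ, ψ, ψ.comp φ]
  exact RingHom.finitePresentation_algebraMap.2 (finitePresentation (C := C))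

theorem fppfSourceDescends_smooth : FppfSourceDescends.{u} @Smooth := by
  intro X Y S g f hg hg' hs h
  haveI : LocallyOfFinitePresentation (g ≫ f) := inferInstance
  haveI : LocallyOfFinitePresentation f := fppfSourceDescends_lfp g f hg hg' hs inferInstance
  rw [← Scheme.Hom.smoothLocus_eq_top_iff]
  refine top_le_iff.1 fun y _ => ?_
  obtain ⟨x, rfl⟩ := g.surjective y
  exact GrothLib.LocProp.mem_smoothLocus_descends g f x (Flat.stalkMap g x)
    (by rw [Scheme.Hom.smoothLocus_eq_top]; trivial)

theorem isLocallyNoetherian_of_fppf {X Y : Scheme.{u}} (f : X ⟶ Y) [Surjective f] [Flat f]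
    [LocallyOfFinitePresentation f] [IsLocallyNoetherian X] : IsLocallyNoetherian Y := by
  refine ⟨fun V => ?_⟩
  haveI : IsAffine (V.1 : Scheme.{u}) := V.2
  haveI : Surjective (f ∣_ V.1) := IsZariskiLocalAtTarget.restrict ‹Surjective f› _
  obtain ⟨T, p, hT, hp, hp', hps⟩ := exists_affine_cover (f ∣_ V.1)
  haveI : IsLocallyNoetherian (f ⁻¹ᵁ V.1).toScheme := inferInstance
  haveI : IsLocallyNoetherian T := LocallyOfFiniteType.isLocallyNoetherian p
  haveI : IsNoetherianRing Γ(T, ⊤) := IsLocallyNoetherian.component_noetherian ⟨⊤, isAffineOpen_top T⟩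
  obtain ⟨-, h2⟩ := appTop_props (p ≫ f ∣_ V.1)
  algebraize [(p ≫ f ∣_ V.1).appTop.hom]
  haveI : Module.FaithfullyFlat Γ(V.1, ⊤) Γ(T, ⊤) := h2
  haveI := GrothLib.Hensel.isNoetherianRing_of_faithfullyFlat Γ(V.1, ⊤) Γ(T, ⊤)
  exact isNoetherianRing_of_ringEquiv _ V.1.topIso.commRingCatIsoToRingEquiv

end GrothLib.FppfSource
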