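import Groth.Agent.Lib.FlatModel.Descent
import Mathlib.RingTheory.IsTensorProduct
import Mathlib.RingTheory.FinitePresentation

/-!
# A flat model of a flat finitely presented algebra over a finitely generated subring

If `C` is a flat finitely presented `B`-algebra then there are a finitely generated subring `B₀`
of `B` and a flat finitely presented `B₀`-algebra `C₀` with `C = B ⊗[B₀] C₀`.
-/

universe u

open TensorProduct MvPolynomial

attribute [local instance] MvPolynomial.algebraMvPolynomial

namespace GrothLib.FppfSource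

set_option maxHeartbeats 1000000 in
/-- A flat finitely presented algebra is defined over a subring of finite type over `ℤ`. -/
theorem exists_flat_algebra_model (B C : Type u) [CommRing B] [CommRing C] [Algebra B C]
    [Algebra.FinitePresentation B C] [Module.Flat B C] :
    ∃ (R₄ : Subalgebra ℤ B) (C₀ : Type u) (_ : CommRing C₀) (_ : Algebra R₄ C₀),
      R₄.FG ∧ Module.Flat R₄ C₀ ∧ Algebra.FinitePresentation R₄ C₀ ∧
        Nonempty (C ≃ₐ[B] B ⊗[R₄] C₀) := by
  classical
  obtain ⟨m, π, hπ, hker⟩ := ‹Algebra.FinitePresentation B C›.out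
  letI : Algebra (MvPolynomial (Fin m) B) C := π.toRingHom.toAlgebra
  haveI : IsScalarTower B (MvPolynomial (Fin m) B) C :=
    IsScalarTower.of_algebraMap_eq fun r => (π.commutes r).symm
  haveI : Module.FinitePresentation (MvPolynomial (Fin m) B) C :=
    Module.finitePresentation_of_surjective (Algebra.linearMap (MvPolynomial (Fin m) B) C) hπ hker
  obtain ⟨q, g, hg⟩ := Submodule.fg_iff_exists_fin_generating_family.1 hker
  have hg0 : ∀ j, π (g j) = 0 := fun j => RingHom.mem_ker.1
    ((hg.le : _ ≤ RingHom.ker π.toRingHom) (Submodule.subset_span ⟨j, rfl⟩))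
  obtain ⟨R₃, _, _, hft, g₃, N, _, _, _, _, hfin, hflat, hg₃, hkill, ⟨eN⟩⟩ :=
    GrothLib.FlatModel.exists_flat_model C g fun j x => by
      change π (g j) * x = 0
      rw [hg0, zero_mul]
  let f : N → C := fun n => eN (1 ⊗ₜ n)
  have hf_smul : ∀ (p : MvPolynomial (Fin m) R₃) (n : N),
      f (p • n) = π (MvPolynomial.map (algebraMap R₃ B) p) * f n := by
    intro p n
    change eN (1 ⊗ₜ (p • n)) = _
    rw [tmul_smul, ← algebraMap_smul (MvPolynomial (Fin m) B) p, map_smul]
    rfl
  obtain ⟨k, n, hn⟩ := hfin.exists_fin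
  choose p hp using fun i => hπ (f (n i))
  -- write `1` in terms of the generators
  have hspan : (1 : C) ∈ Submodule.span (MvPolynomial (Fin m) B) (Set.range fun i => f (n i)) := by
    obtain ⟨z, hz⟩ := eN.surjective 1
    rw [← hz]
    clear hz
    induction z using TensorProduct.induction_on with
    | zero => rw [map_zero]; exact zero_mem _
    | add x y hx hy => rw [map_add]; exact add_mem hx hy
    | tmul a x =>
      rw [← mul_one a, ← smul_eq_mul, ← smul_tmul', map_smul]
      refine Submodule.smul_mem _ _ ?_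
      have hx : x ∈ Submodule.span (MvPolynomial (Fin m) R₃) (Set.range n) := hn ▸ trivial
      induction hx using Submodule.span_induction with
      | mem y hy => obtain ⟨i, rfl⟩ := hy; exact Submodule.subset_span ⟨i, rfl⟩
      | zero => rw [tmul_zero, map_zero]; exact zero_mem _
      | add y y' _ _ hy hy' => rw [tmul_add, map_add]; exact add_mem hy hy'
      | smul c y _ hy =>
        have := hf_smul c y
        change f (c • y) ∈ _
        rw [this]
        exact Submodule.smul_mem _ (MvPolynomial.map (algebraMap R₃ B) c) hy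
  obtain ⟨c, hc⟩ := (Submodule.mem_span_range_iff_exists_fun _).1 hspan
  obtain ⟨G, hG⟩ := hft.out
  let T : Finset B := (G.image (algebraMap R₃ B)) ∪ (Finset.univ.biUnion fun i => (p i).coeffs) ∪
    (Finset.univ.biUnion fun i => (c i).coeffs)
  let R₄ : Subalgebra ℤ B := Algebra.adjoin ℤ (T : Set B)
  have hR₄ : R₄.FG := Subalgebra.fg_adjoin_finset _
  have hR₃R₄ : ∀ r, algebraMap R₃ B r ∈ R₄ := by
    intro r
    have hr : r ∈ Algebra.adjoin ℤ (G : Set R₃) := hG ▸ trivial
    induction hr using Algebra.adjoin_induction with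
    | mem y hy =>
      exact Algebra.subset_adjoin (Finset.mem_coe.2 (Finset.mem_union_left _
        (Finset.mem_union_left _ (Finset.mem_image_of_mem _ hy))))
    | algebraMap d =>
      rw [show algebraMap ℤ R₃ d = (d : R₃) from rfl, map_intCast]
      exact intCast_mem R₄ d
    | add y z _ _ hy hz => rw [map_add]; exact add_mem hy hz
    | mul y z _ _ hy hz => rw [map_mul]; exact mul_mem hy hz
  letI : Algebra R₃ R₄ := ((algebraMap R₃ B).codRestrict R₄ hR₃R₄).toAlgebra
  haveI : IsScalarTower R₃ R₄ B := IsScalarTower.of_algebraMap_eq fun _ => rfl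
  letI : Algebra R₃ C := ((algebraMap B C).comp (algebraMap R₃ B)).toAlgebra
  haveI : IsScalarTower R₃ B C := IsScalarTower.of_algebraMap_eq fun _ => rfl
  haveI : IsScalarTower R₃ R₄ C := IsScalarTower.of_algebraMap_eq fun _ => rfl
  -- the algebra generated by the variables
  let x : Fin m → C := fun l => π (MvPolynomial.X l)
  let C₀ : Subalgebra R₄ C := Algebra.adjoin R₄ (Set.range x)
  have hπC₀ : ∀ a : MvPolynomial (Fin m) B, (∀ b ∈ a.coeffs, b ∈ R₄) → π a ∈ C₀ := by
    intro a ha
    rw [a.as_sum, map_sum]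
    refine sum_mem fun d hd => ?_
    rw [MvPolynomial.monomial_eq, map_mul, ← MvPolynomial.algebraMap_eq, AlgHom.commutes, map_finsuppProd]
    refine mul_mem ?_ (prod_mem fun l _ => ?_)
    · exact C₀.algebraMap_mem ⟨a.coeff d, ha _ (MvPolynomial.coeff_mem_coeffs _
        (MvPolynomial.mem_support_iff.1 hd))⟩
    · show π (MvPolynomial.X l ^ _) ∈ C₀
      rw [map_pow]
      exact pow_mem (show x l ∈ C₀ from Algebra.subset_adjoin (Set.mem_range_self l)) _
  have hmapC₀ : ∀ a : MvPolynomial (Fin m) R₃, π (MvPolynomial.map (algebraMap R₃ B) a) ∈ C₀ := by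
    intro a
    refine hπC₀ _ fun b hb => ?_
    obtain ⟨d, hd, rfl⟩ := MvPolynomial.mem_coeffs_iff.1 hb
    rw [MvPolynomial.coeff_map]
    exact hR₃R₄ _
  have hfC₀ : ∀ y, f y ∈ C₀ := by
    intro y
    have hy : y ∈ Submodule.span (MvPolynomial (Fin m) R₃) (Set.range n) := hn ▸ trivial
    induction hy using Submodule.span_induction with
    | mem z hz =>
      obtain ⟨i, rfl⟩ := hz
      rw [← hp i]
      exact hπC₀ _ fun b hb => Algebra.subset_adjoin (Finset.mem_coe.2 (Finset.mem_union_left _
        (Finset.mem_union_right _ (Finset.mem_biUnion.2 ⟨i, Finset.mem_univ _, hb⟩))))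
    | zero => simp only [f, tmul_zero, map_zero]; exact zero_mem _
    | add z z' _ _ hz hz' => simp only [f, tmul_add, map_add]; exact add_mem hz hz'
    | smul d z _ hz => rw [hf_smul]; exact mul_mem (hmapC₀ d) hz
  -- the base change map
  let Φ : B ⊗[R₃] N ≃ₗ[B] C := (Algebra.IsPushout.cancelBaseChange R₃ B (MvPolynomial (Fin m) R₃)
    (MvPolynomial (Fin m) B) N).symm ≪≫ₗ eN.restrictScalars B
  have hΦ : ∀ (b : B) (y : N), Φ (b ⊗ₜ y) = b • f y := by
    intro b y
    change eN ((Algebra.IsPushout.cancelBaseChange R₃ B (MvPolynomial (Fin m) R₃)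
      (MvPolynomial (Fin m) B) N).symm (b ⊗ₜ y)) = _
    rw [Algebra.IsPushout.cancelBaseChange_symm_tmul, ← mul_one (algebraMap B (MvPolynomial (Fin m) B) b),
      ← smul_eq_mul, ← smul_tmul', map_smul, algebraMap_smul]
  have hf_R₃ : ∀ (r : R₃) (y : N), f (r • y) = algebraMap R₃ C r * f y := fun r y => by
    rw [← algebraMap_smul (MvPolynomial (Fin m) R₃) r y, hf_smul, MvPolynomial.algebraMap_eq,
      MvPolynomial.map_C, ← MvPolynomial.algebraMap_eq, AlgHom.commutes]
    rfl
  let fC : N →ₗ[R₃] C₀ :=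
    { toFun := fun y => ⟨f y, hfC₀ y⟩
      map_add' := fun y z => Subtype.ext (by simp only [f, tmul_add, map_add]; rfl)
      map_smul' := fun r y => Subtype.ext (by
        change f (r • y) = _
        rw [hf_R₃, RingHom.id_apply, Algebra.smul_def]
        rfl) }
  let φ : R₄ ⊗[R₃] N →ₗ[R₄] C₀ := TensorProduct.AlgebraTensorModule.lift
    ((LinearMap.lsmul R₄ (N →ₗ[R₃] C₀)).flip fC)
  have hφ : ∀ (r : R₄) (y : N), (φ (r ⊗ₜ y) : C) = (r : B) • f y := fun r y => rfl
  have hφΦ : ∀ z, (φ z : C) = Φ (TensorProduct.map (IsScalarTower.toAlgHom R₃ R₄ B).toLinearMap LinearMap.id z) := by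
    intro z
    induction z using TensorProduct.induction_on with
    | zero => rw [map_zero, map_zero, map_zero]; rfl
    | add a b ha hb => rw [map_add, map_add, map_add, ← ha, ← hb]; rfl
    | tmul r y => rw [hφ, TensorProduct.map_tmul, hΦ]; rfl
  have hinj : Function.Injective φ := by
    intro z z' h
    have h' : Φ _ = Φ _ := (hφΦ z).symm.trans ((congrArg Subtype.val h).trans (hφΦ z'))
    exact Module.Flat.rTensor_preserves_injective_linearMap
      (IsScalarTower.toAlgHom R₃ R₄ B).toLinearMap Subtype.val_injective (Φ.injective h')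
  -- the image is stable under multiplication by the generators
  let S : Submodule R₄ C₀ := LinearMap.range φ
  have hS_f : ∀ y, fC y ∈ S := fun y => ⟨1 ⊗ₜ y, Subtype.ext ((hφ 1 y).trans (one_smul _ _))⟩
  have hmul : ∀ (a : MvPolynomial (Fin m) B), (∀ b ∈ a.coeffs, b ∈ R₄) → ∀ y : N,
      ∀ h : π a * f y ∈ C₀, (⟨_, h⟩ : C₀) ∈ S := by
    intro a ha y h
    choose! lift hlift using fun d (hd : d ∈ a.support) =>
      (⟨⟨a.coeff d, ha _ (MvPolynomial.coeff_mem_coeffs _ (MvPolynomial.mem_support_iff.1 hd))⟩, rfl⟩ :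
        ∃ r : R₄, (r : B) = a.coeff d)
    refine ⟨∑ d ∈ a.support, lift d ⊗ₜ ((MvPolynomial.monomial d (1 : R₃)) • y), Subtype.ext ?_⟩
    rw [map_sum, AddSubmonoidClass.coe_finset_sum]
    change _ = π a * f y
    conv_rhs => rw [a.as_sum, map_sum, Finset.sum_mul]
    refine Finset.sum_congr rfl fun d hd => ?_
    rw [hφ, hf_smul, MvPolynomial.map_monomial, map_one, hlift d hd, Algebra.smul_def, ← mul_assoc,
      ← π.commutes, ← map_mul, MvPolynomial.algebraMap_eq, MvPolynomial.C_mul_monomial, mul_one]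
  have hone : (1 : C₀) ∈ S := by
    have h1 : ∀ i, π (c i) * f (n i) ∈ C₀ := fun i => mul_mem (hπC₀ _ fun b hb =>
      Algebra.subset_adjoin (Finset.mem_coe.2 (Finset.mem_union_right _
        (Finset.mem_biUnion.2 ⟨i, Finset.mem_univ _, hb⟩)))) (hfC₀ _)
    have : (1 : C₀) = ∑ i, ⟨_, h1 i⟩ := Subtype.ext (by
      rw [AddSubmonoidClass.coe_finset_sum]
      exact hc.symm)
    rw [this]
    exact sum_mem fun i _ => hmul _ (fun b hb => Algebra.subset_adjoin (Finset.mem_coe.2
      (Finset.mem_union_right _ (Finset.mem_biUnion.2 ⟨i, Finset.mem_univ _, hb⟩)))) _ _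
  have hsurj : Function.Surjective φ := by
    intro z
    suffices h : ∀ a : C, ∀ ha : a ∈ C₀, ∀ s ∈ S, (⟨a, ha⟩ : C₀) * s ∈ S by
      have := h z.1 z.2 1 hone
      rw [mul_one] at this
      exact this
    intro a ha
    induction ha using Algebra.adjoin_induction with
    | mem b hb =>
      obtain ⟨l, rfl⟩ := hb
      rintro _ ⟨w, rfl⟩
      induction w using TensorProduct.induction_on with
      | zero => rw [map_zero, mul_zero]; exact zero_mem _
      | add u v hu hv => rw [map_add, mul_add]; exact add_mem hu hv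
      | tmul r y =>
        have hh : (⟨x l, Algebra.subset_adjoin ⟨l, rfl⟩⟩ : C₀) * φ (r ⊗ₜ y) =
            r • fC ((MvPolynomial.X l : MvPolynomial (Fin m) R₃) • y) := Subtype.ext (by
          change x l * (φ (r ⊗ₜ y) : C) = (r : B) • f ((MvPolynomial.X l : MvPolynomial (Fin m) R₃) • y)
          rw [hφ, hf_smul, MvPolynomial.map_X, mul_smul_comm])
        exact hh ▸ S.smul_mem r (hS_f _)
    | algebraMap r =>
      intro s hs
      exact Algebra.smul_def r s ▸ S.smul_mem r hs
    | add a b ha hb iha ihb =>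
      intro s hs
      exact add_mul (⟨a, ha⟩ : C₀) ⟨b, hb⟩ s ▸ add_mem (iha s hs) (ihb s hs)
    | mul a b ha hb iha ihb =>
      intro s hs
      exact (mul_assoc (⟨a, ha⟩ : C₀) ⟨b, hb⟩ s).symm ▸ iha _ (ihb s hs)
  let φe : R₄ ⊗[R₃] N ≃ₗ[R₄] C₀ := LinearEquiv.ofBijective φ ⟨hinj, hsurj⟩
  haveI : Algebra.FiniteType ℤ R₄ := R₄.fg_iff_finiteType.1 hR₄
  haveI : IsNoetherianRing R₄ := Algebra.FiniteType.isNoetherianRing ℤ R₄
  haveI : Algebra.FiniteType R₄ C₀ :=
    C₀.fg_iff_finiteType.1 (Subalgebra.fg_def.2 ⟨_, Set.finite_range x, rfl⟩)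
  haveI hflat₄ : Module.Flat R₄ C₀ := .of_linearEquiv φe.symm
  refine ⟨R₄, C₀, inferInstance, inferInstance, hR₄, hflat₄,
    Algebra.FinitePresentation.of_finiteType.1 inferInstance, ⟨?_⟩⟩
  let μ : B ⊗[R₄] C₀ →ₐ[B] C := Algebra.TensorProduct.lift (Algebra.ofId B C) C₀.val
    fun _ _ => Commute.all _ _
  have hμ : Function.Bijective μ := by
    let E : B ⊗[R₄] C₀ ≃ₗ[B] C := (TensorProduct.AlgebraTensorModule.congr (LinearEquiv.refl B B) φe.symm) ≪≫ₗ
      TensorProduct.AlgebraTensorModule.cancelBaseChange R₃ R₄ B B N ≪≫ₗ Φ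
    have hE : ∀ z, E.symm.symm z = μ z := by
      intro z
      induction z using TensorProduct.induction_on with
      | zero => simp
      | add a b ha hb => rw [map_add, map_add, ha, hb]
      | tmul b w =>
        obtain ⟨w, rfl⟩ := φe.surjective w
        have e1 : E (b ⊗ₜ φe w) = Φ (TensorProduct.AlgebraTensorModule.cancelBaseChange R₃ R₄ B B N (b ⊗ₜ w)) := by
          simp [E]
        change E (b ⊗ₜ φe w) = μ (b ⊗ₜ φe w)
        rw [e1]
        clear e1
        induction w using TensorProduct.induction_on with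
        | zero => simp
        | add u v hu hv => rw [tmul_add, map_add, map_add, hu, hv, map_add, tmul_add, map_add]
        | tmul r y =>
          rw [TensorProduct.AlgebraTensorModule.cancelBaseChange_tmul, hΦ]
          change (r • b) • f y = algebraMap B C b * (φ (r ⊗ₜ y) : C)
          rw [hφ, ← Algebra.smul_def, smul_smul, Algebra.smul_def r b, mul_comm]
          rfl
    rw [show (⇑μ) = ⇑E from funext fun z => (hE z).symm]
    exact E.bijective
  exact (AlgEquiv.ofBijective μ hμ).symm

end GrothLib.FppfSource
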