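import Mathlib.RingTheory.Spectrum.Prime.Chevalley
import Mathlib.RingTheory.Polynomial.Basic
import Mathlib.RingTheory.Flat.FaithfullyFlat.Algebra
import Groth.Agent.Lib.FppfSource.Model
import Groth.Prelude.Def_AlgSp2

/-!
# Finite type and finite presentation descend along faithfully flat finitely presented maps at the source

The proofs follow `GrothLib.AlgSp.EtaleDescent`, with a flat model in place of a smooth one.
-/

universe u

open TensorProduct

namespace GrothLib.FppfSource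

theorem exists_subalgebra_flat (A B C : Type u) [CommRing A] [CommRing B] [CommRing C] [Algebra A B]
    [Algebra B C] [Algebra.FinitePresentation B C] [Module.Flat B C] :
    ∃ (B₀ : Subalgebra A B) (C₀ : Type u) (_ : CommRing C₀) (_ : Algebra B₀ C₀),
      B₀.FG ∧ Algebra.FinitePresentation B₀ C₀ ∧ Module.Flat B₀ C₀ ∧
        Nonempty (C ≃ₐ[B] B ⊗[B₀] C₀) := by
  obtain ⟨R₄, C₁, _, _, ⟨s, hs⟩, _, _, ⟨e⟩⟩ := exists_flat_algebra_model B C
  let B₀ : Subalgebra A B := Algebra.adjoin A (s : Set B)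
  have h : ∀ x : R₄, (x : B) ∈ B₀ := by
    rintro ⟨x, hx⟩
    rw [← hs] at hx
    exact (Algebra.adjoin_le (S := B₀.restrictScalars ℤ) (fun y hy => Algebra.subset_adjoin hy)) hx
  let _ : Algebra R₄ B₀ := ((algebraMap R₄ B).codRestrict B₀ h).toAlgebra
  haveI : IsScalarTower R₄ B₀ B := IsScalarTower.of_algebraMap_eq fun _ => rfl
  exact ⟨B₀, B₀ ⊗[R₄] C₁, inferInstance, inferInstance, Subalgebra.fg_adjoin_finset _, inferInstance,
    inferInstance, ⟨e.trans (Algebra.TensorProduct.cancelBaseChange R₄ B₀ B B C₁).symm⟩⟩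

section Range

variable {B₀ C₀ : Type u} [CommRing B₀] [CommRing C₀] [Algebra B₀ C₀]

theorem comap_includeLeft_surjective (B₁ : Type u) [CommRing B₁] [Algebra B₀ B₁]
    (h : ∀ q : PrimeSpectrum B₁, PrimeSpectrum.comap (algebraMap B₀ B₁) q ∈
      Set.range (PrimeSpectrum.comap (algebraMap B₀ C₀))) :
    Function.Surjective (PrimeSpectrum.comap (algebraMap B₁ (B₁ ⊗[B₀] C₀))) := by
  intro q
  obtain ⟨r, hr⟩ := h q
  let q₀ := (PrimeSpectrum.comap (algebraMap B₀ B₁) q).asIdeal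
  obtain ⟨Ω, _, i₁, i₂, hi⟩ := _root_.AlgSp.FieldPt.exists_amalgamation
    (Ideal.ResidueField.map q₀ q.asIdeal (algebraMap B₀ B₁) rfl)
    (Ideal.ResidueField.map q₀ r.asIdeal (algebraMap B₀ C₀) (congrArg PrimeSpectrum.asIdeal hr).symm)
  let f : B₁ →+* Ω := i₁.comp (algebraMap B₁ q.asIdeal.ResidueField)
  let g : C₀ →+* Ω := i₂.comp (algebraMap C₀ r.asIdeal.ResidueField)
  algebraize [f.comp (algebraMap B₀ B₁)]
  let fa : B₁ →ₐ[B₀] Ω := ⟨f, fun _ => rfl⟩
  let ga : C₀ →ₐ[B₀] Ω := ⟨g, fun b => by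
    have := RingHom.congr_fun hi (algebraMap B₀ q₀.ResidueField b)
    simp only [RingHom.comp_apply, Ideal.ResidueField.map] at this
    change g (algebraMap B₀ C₀ b) = f (algebraMap B₀ B₁ b)
    simpa [f, g] using this.symm⟩
  let φ := Algebra.TensorProduct.lift fa ga fun _ _ => Commute.all _ _
  refine ⟨⟨RingHom.ker φ.toRingHom, RingHom.ker_isPrime _⟩, PrimeSpectrum.ext ?_⟩
  ext x
  change φ (algebraMap B₁ (B₁ ⊗[B₀] C₀) x) = 0 ↔ x ∈ q.asIdeal
  rw [Algebra.TensorProduct.algebraMap_apply, Algebra.TensorProduct.lift_tmul]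
  simp [fa, f, map_eq_zero, Ideal.algebraMap_residueField_eq_zero]

theorem exists_ideal_range [Algebra.FinitePresentation B₀ C₀] [Module.Flat B₀ C₀] :
    ∃ K : Ideal B₀, (PrimeSpectrum.zeroLocus (K : Set B₀))ᶜ =
      Set.range (PrimeSpectrum.comap (algebraMap B₀ C₀)) := by
  obtain ⟨K, hK⟩ := (PrimeSpectrum.isClosed_iff_zeroLocus_ideal _).1
    (PrimeSpectrum.isOpenMap_comap_of_hasGoingDown_of_finitePresentation
      (R := B₀) (S := C₀)).isOpen_range.isClosed_compl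
  exact ⟨K, by rw [← hK, compl_compl]⟩

theorem faithfullyFlat_baseChange [Algebra.FinitePresentation B₀ C₀] [Module.Flat B₀ C₀] {K : Ideal B₀}
    (hK : (PrimeSpectrum.zeroLocus (K : Set B₀))ᶜ =
      Set.range (PrimeSpectrum.comap (algebraMap B₀ C₀)))
    (B₁ : Type u) [CommRing B₁] [Algebra B₀ B₁] (h : K.map (algebraMap B₀ B₁) = ⊤) :
    Module.FaithfullyFlat B₁ (B₁ ⊗[B₀] C₀) := by
  refine Module.FaithfullyFlat.of_comap_surjective (comap_includeLeft_surjective B₁ fun q => ?_)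
  rw [← hK]
  exact fun hq => q.2.ne_top (top_le_iff.1 (h ▸ Ideal.map_le_iff_le_comap.2 hq))

theorem map_eq_top [Algebra.FinitePresentation B₀ C₀] [Module.Flat B₀ C₀] {K : Ideal B₀}
    (hK : (PrimeSpectrum.zeroLocus (K : Set B₀))ᶜ =
      Set.range (PrimeSpectrum.comap (algebraMap B₀ C₀)))
    (B : Type u) [CommRing B] [Algebra B₀ B] {C : Type u} [CommRing C] [Algebra B C]
    [Module.FaithfullyFlat B C] (e : C ≃ₐ[B] B ⊗[B₀] C₀) : K.map (algebraMap B₀ B) = ⊤ := by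
  by_contra h
  obtain ⟨m, hm, hle⟩ := Ideal.exists_le_maximal _ h
  have : Module.FaithfullyFlat B (B ⊗[B₀] C₀) := .of_linearEquiv B C e.symm.toLinearEquiv
  obtain ⟨r, hr⟩ := PrimeSpectrum.comap_surjective_of_faithfullyFlat (A := B) (B := B ⊗[B₀] C₀) ⟨m, hm.isPrime⟩
  have hmem : PrimeSpectrum.comap (algebraMap B₀ B) ⟨m, hm.isPrime⟩ ∈
      (PrimeSpectrum.zeroLocus (K : Set B₀))ᶜ := by
    rw [hK]
    refine ⟨PrimeSpectrum.comap (Algebra.TensorProduct.includeRight : C₀ →ₐ[B₀] B ⊗[B₀] C₀).toRingHom r, ?_⟩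
    rw [← hr, ← PrimeSpectrum.comap_comp_apply, ← PrimeSpectrum.comap_comp_apply]
    congr 1
    ext x
    simp [Algebra.TensorProduct.tmul_one_eq_one_tmul]
  exact hmem (Ideal.map_le_iff_le_comap.1 hle)

end Range

variable {A B C : Type u} [CommRing A] [CommRing B] [CommRing C] [Algebra A B] [Algebra B C]
  [Algebra A C] [IsScalarTower A B C]

theorem finiteType [Algebra.FinitePresentation B C] [Module.FaithfullyFlat B C] [Algebra.FiniteType A C] :
    Algebra.FiniteType A B := by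
  classical
  obtain ⟨B₀, C₀, _, _, hB₀, _, _, ⟨e⟩⟩ := exists_subalgebra_flat A B C
  obtain ⟨K, hK⟩ := exists_ideal_range (B₀ := B₀) (C₀ := C₀)
  have h1 : (1 : B) ∈ Submodule.span B (algebraMap B₀ B '' (K : Set B₀)) := by
    change (1 : B) ∈ Ideal.map (algebraMap B₀ B) K
    rw [map_eq_top hK B e]; trivial
  obtain ⟨c, hc, hc1⟩ := Submodule.mem_span_set.1 h1
  obtain ⟨s, hs⟩ := Algebra.FiniteType.out (R := A) (A := C)
  choose t ht using fun x : C => TensorProduct.exists_finset (e x)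
  let T : Finset B := c.support.image c ∪ s.biUnion fun x => (t x).image Prod.fst
  let B₁ : Subalgebra A B := B₀ ⊔ Algebra.adjoin A (T : Set B)
  have : Algebra.FiniteType A B₁ := B₁.fg_iff_finiteType.1 (hB₀.sup (Subalgebra.fg_adjoin_finset T))
  let _ : Algebra B₀ B₁ := (Subalgebra.inclusion (le_sup_left : B₀ ≤ B₁)).toAlgebra
  have : IsScalarTower B₀ B₁ B := .of_algebraMap_eq fun _ => rfl
  have : IsScalarTower A B₀ B₁ := .of_algebraMap_eq fun _ => rfl
  have hT : ∀ b ∈ T, b ∈ B₁ := fun b hb =>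
    (le_sup_right : _ ≤ B₁) (Algebra.subset_adjoin hb)
  have hK₁ : K.map (algebraMap B₀ B₁) = ⊤ := by
    rw [Ideal.eq_top_iff_one]
    have : ∑ i ∈ c.support.attach, (⟨c i, hT _ (Finset.mem_union_left _ (Finset.mem_image_of_mem c i.2))⟩ : B₁) *
        algebraMap B₀ B₁ (hc i.2).choose = 1 := by
      apply Subtype.ext
      rw [AddSubmonoidClass.coe_finsetSum, OneMemClass.coe_one, ← hc1, Finsupp.sum,
        ← Finset.sum_attach c.support]
      refine Finset.sum_congr rfl fun i _ => ?_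
      exact congrArg (c i.1 * ·) (hc i.2).choose_spec.2
    rw [← this]
    exact Ideal.sum_mem _ fun i _ => Ideal.mul_mem_left _ _ (Ideal.mem_map_of_mem _ (hc i.2).choose_spec.1)
  have := faithfullyFlat_baseChange hK B₁ hK₁
  let φ : B₁ ⊗[B₀] C₀ →ₐ[B₀] B ⊗[B₀] C₀ :=
    Algebra.TensorProduct.map (IsScalarTower.toAlgHom B₀ B₁ B) (AlgHom.id B₀ C₀)
  have hφ : Function.Surjective φ := by
    let ψ : B₁ ⊗[B₀] C₀ →ₐ[A] C := (e.symm.restrictScalars A).toAlgHom.comp (φ.restrictScalars A)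
    have hψ : Function.Surjective ψ := by
      rw [← AlgHom.range_eq_top, ← top_le_iff, ← hs, Algebra.adjoin_le_iff]
      intro x hx
      refine ⟨∑ p ∈ (t x).attach, (⟨p.1.1, hT _ (Finset.mem_union_right _
        (Finset.mem_biUnion.2 ⟨x, hx, Finset.mem_image_of_mem _ p.2⟩))⟩ : B₁) ⊗ₜ[B₀] p.1.2, ?_⟩
      change e.symm (φ _) = x
      rw [AlgEquiv.symm_apply_eq, ht x, map_sum, ← Finset.sum_attach (t x)]
      exact Finset.sum_congr rfl fun p _ => rfl
    intro y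
    obtain ⟨z, hz⟩ := hψ (e.symm y)
    exact ⟨z, e.symm.injective hz⟩
  have hval : Function.Surjective (IsScalarTower.toAlgHom A B₁ B) := by
    refine (Module.FaithfullyFlat.lTensor_surjective_iff_surjective (R := B₁) (M := B₁ ⊗[B₀] C₀)
      (IsScalarTower.toAlgHom B₁ B₁ B).toLinearMap).1 ?_
    let g : B ⊗[B₀] C₀ →ₗ[B₀] (B₁ ⊗[B₀] C₀) ⊗[B₁] B :=
      TensorProduct.lift ((TensorProduct.mk B₁ (B₁ ⊗[B₀] C₀) B).restrictScalars₁₂ B₀ B₀ ∘ₗ
        Algebra.TensorProduct.includeRight.toLinearMap).flip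
    have hg : ∀ z, g (φ z) = z ⊗ₜ[B₁] (1 : B) := by
      intro z
      induction z with
      | zero => simp
      | add x y hx hy => simp [map_add, hx, hy, add_tmul]
      | tmul b c =>
        change ((1 : B₁) ⊗ₜ[B₀] c) ⊗ₜ[B₁] (algebraMap B₁ B b) = _
        rw [Algebra.algebraMap_eq_smul_one, tmul_smul, smul_tmul', smul_tmul', smul_eq_mul, mul_one]
    intro y
    induction y with
    | zero => exact ⟨0, map_zero _⟩
    | add x y hx hy =>
      obtain ⟨x, rfl⟩ := hx; obtain ⟨y, rfl⟩ := hy; exact ⟨x + y, map_add _ _ _⟩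
    | tmul d b =>
      induction d with
      | zero => exact ⟨0, by simp⟩
      | add x y hx hy =>
        obtain ⟨x', hx'⟩ := hx; obtain ⟨y', hy'⟩ := hy
        exact ⟨x' + y', by rw [map_add, hx', hy', add_tmul]⟩
      | tmul b₁ c₀ =>
        have e1 : g ((algebraMap B₁ B b₁ * b) ⊗ₜ[B₀] c₀) = (b₁ ⊗ₜ[B₀] c₀) ⊗ₜ[B₁] b := by
          change ((1 : B₁) ⊗ₜ[B₀] c₀) ⊗ₜ[B₁] (algebraMap B₁ B b₁ * b) = _
          rw [← Algebra.smul_def, tmul_smul, smul_tmul', smul_tmul', smul_eq_mul, mul_one]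
        obtain ⟨z, hz⟩ := hφ ((algebraMap B₁ B b₁ * b) ⊗ₜ[B₀] c₀)
        refine ⟨z ⊗ₜ[B₁] (1 : B₁), ?_⟩
        rw [LinearMap.lTensor_tmul, ← e1, ← hz, hg]
        simp
  exact .of_surjective _ hval

/-- The key step: a finitely presented `B'` surjecting onto `B`, over which the flat algebra is defined. -/
theorem finitePresentation_of_lift [Algebra.FinitePresentation A C] {B₀ C₀ B' : Type u} [CommRing B₀]
    [CommRing C₀] [CommRing B'] [Algebra B₀ C₀] [Algebra.FinitePresentation B₀ C₀] [Module.Flat B₀ C₀] [Algebra B₀ B'] [Algebra B₀ B]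
    [Algebra A B'] [Algebra.FinitePresentation A B'] (e : C ≃ₐ[B] B ⊗[B₀] C₀) {K : Ideal B₀}
    (hK : (PrimeSpectrum.zeroLocus (K : Set B₀))ᶜ =
      Set.range (PrimeSpectrum.comap (algebraMap B₀ C₀)))
    (π' : B' →ₐ[A] B) (hγ : ∀ b, π' (algebraMap B₀ B' b) = algebraMap B₀ B b)
    (hπ' : Function.Surjective π')
    (hKJ : K.map (algebraMap B₀ B') ⊔ RingHom.ker π'.toRingHom = ⊤) :
    Algebra.FinitePresentation A B := by
  classical
  let π₀ : B' →ₐ[B₀] B := ⟨π'.toRingHom, hγ⟩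
  have hπ₀ : Function.Surjective π₀ := hπ'
  let J := RingHom.ker π₀.toRingHom
  obtain ⟨k, hk, j, hj, hkj⟩ := Submodule.mem_sup.1 ((Ideal.eq_top_iff_one _).1 hKJ)
  -- the kernel in the etale extension is finitely generated
  let φ : B' ⊗[B₀] C₀ →ₐ[B₀] B ⊗[B₀] C₀ := Algebra.TensorProduct.map π₀ (AlgHom.id B₀ C₀)
  have hker : RingHom.ker φ = J.map (Algebra.TensorProduct.includeLeft : B' →ₐ[B₀] B' ⊗[B₀] C₀) :=
    Algebra.TensorProduct.rTensor_ker _ hπ₀
  have : Algebra.FinitePresentation A (B' ⊗[B₀] C₀) := .trans A B' (B' ⊗[B₀] C₀)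
  let φA : B' ⊗[B₀] C₀ →ₐ[A] C :=
    { toRingHom := e.symm.toRingHom.comp φ.toRingHom
      commutes' := fun r => by
        change e.symm (φ ((algebraMap A B' r) ⊗ₜ[B₀] (1 : C₀))) = _
        change e.symm (π₀ (algebraMap A B' r) ⊗ₜ[B₀] (1 : C₀)) = _
        rw [show π₀ (algebraMap A B' r) = algebraMap A B r from π'.commutes r,
          IsScalarTower.algebraMap_apply A B C r]
        exact e.symm.commutes _ }
  have : Algebra.FinitePresentation B' (B' ⊗[B₀] C₀) := inferInstance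
  have hφA : Function.Surjective φA :=
    e.symm.surjective.comp (Algebra.TensorProduct.map_surjective _ _ hπ₀ Function.surjective_id)
  have hfg : (RingHom.ker φ).FG := by
    have := Algebra.FinitePresentation.ker_fG_of_surjective (R := A) (A := B' ⊗[B₀] C₀) (B := C) φA hφA
    have e1 : RingHom.ker φ = RingHom.ker φA.toRingHom := by
      ext x
      simp [RingHom.mem_ker, φA]
    rw [e1]
    exact this
  rw [hker, Ideal.map] at hfg
  obtain ⟨T, hT, hTspan⟩ := (Submodule.fg_span_iff_fg_span_finset_subset _).1 hfg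
  choose τ hτ hτ' using fun x : T => hT x.2
  let J₁ : Ideal B' := Ideal.span (Set.range τ ∪ {j})
  have hJ₁ : J₁.FG := Submodule.fg_span ((Set.finite_range τ).union (Set.finite_singleton j))
  have hJ₁J : J₁ ≤ J := Ideal.span_le.2 (Set.union_subset (by rintro _ ⟨x, rfl⟩; exact hτ x)
    (Set.singleton_subset_iff.2 hj))
  let q : B' →ₐ[B₀] B' ⧸ J₁ := Ideal.Quotient.mkₐ B₀ J₁
  have hq : K.map (algebraMap B₀ (B' ⧸ J₁) : B₀ →+* B' ⧸ J₁) = ⊤ := by
    rw [Ideal.eq_top_iff_one, show algebraMap B₀ (B' ⧸ J₁) = q.toRingHom.comp (algebraMap B₀ B')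
      from q.comp_algebraMap.symm, ← Ideal.map_map]
    have : q j = 0 := Ideal.Quotient.eq_zero_iff_mem.2 (Ideal.subset_span (Or.inr rfl))
    rw [show (1 : B' ⧸ J₁) = q k by rw [← map_one q, ← hkj, map_add, this, add_zero]]
    exact Ideal.mem_map_of_mem _ hk
  have := faithfullyFlat_baseChange hK (B' ⧸ J₁) hq
  have : Algebra.FinitePresentation A (B' ⧸ J₁) := .quotient hJ₁
  have hJ : J ≤ J₁ := by
    intro y hy
    rw [← Ideal.Quotient.eq_zero_iff_mem]
    apply FaithfulSMul.algebraMap_injective (B' ⧸ J₁) ((B' ⧸ J₁) ⊗[B₀] C₀)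
    rw [map_zero, Algebra.TensorProduct.algebraMap_apply]
    let Q : B' ⊗[B₀] C₀ →ₐ[B₀] (B' ⧸ J₁) ⊗[B₀] C₀ := Algebra.TensorProduct.map q (AlgHom.id B₀ C₀)
    change Q (y ⊗ₜ[B₀] (1 : C₀)) = 0
    have hy' : (Algebra.TensorProduct.includeLeft : B' →ₐ[B₀] B' ⊗[B₀] C₀) y ∈
        Ideal.span (T : Set (B' ⊗[B₀] C₀)) := by
      rw [show Ideal.span (T : Set (B' ⊗[B₀] C₀)) = _ from hTspan.symm]
      exact Ideal.subset_span (Set.mem_image_of_mem _ hy)
    refine (Ideal.span_le.2 (fun z hz => ?_) : _ ≤ RingHom.ker Q) hy'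
    have e2 : _ = z := hτ' ⟨z, hz⟩
    rw [SetLike.mem_coe, RingHom.mem_ker, ← e2]
    change q (τ _) ⊗ₜ[B₀] (1 : C₀) = 0
    rw [show q (τ ⟨z, hz⟩) = 0 from Ideal.Quotient.eq_zero_iff_mem.2
      (Ideal.subset_span (Or.inl (Set.mem_range_self _))), zero_tmul]
  let f : (B' ⧸ J₁) →ₐ[A] B := Ideal.Quotient.liftₐ J₁ π' fun x hx => hJ₁J hx
  refine Algebra.FinitePresentation.equiv (AlgEquiv.ofBijective f ⟨?_, ?_⟩)
  · rw [injective_iff_map_eq_zero]
    intro x hx
    obtain ⟨x, rfl⟩ := Ideal.Quotient.mk_surjective x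
    exact Ideal.Quotient.eq_zero_iff_mem.2 (hJ hx)
  · intro b
    obtain ⟨y, hy⟩ := hπ' b
    exact ⟨Ideal.Quotient.mk J₁ y, hy⟩

theorem finitePresentation [Algebra.FinitePresentation B C] [Module.FaithfullyFlat B C]
    [Algebra.FinitePresentation A C] : Algebra.FinitePresentation A B := by
  classical
  have := finiteType (A := A) (B := B) (C := C)
  obtain ⟨n, π, hπ⟩ := Algebra.FiniteType.iff_quotient_mvPolynomial''.1 this
  obtain ⟨B₀, C₀, _, _, ⟨s, hs⟩, _, _, ⟨e⟩⟩ := exists_flat_algebra_model B C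
  obtain ⟨K, hK⟩ := exists_ideal_range (B₀ := B₀) (C₀ := C₀)
  choose l hl using hπ
  have hsB : ∀ x ∈ s, x ∈ B₀ := fun x hx => hs ▸ Algebra.subset_adjoin hx
  let g : MvPolynomial s ℤ →ₐ[ℤ] B₀ := MvPolynomial.aeval fun x => ⟨x.1, hsB _ x.2⟩
  let g' : MvPolynomial s ℤ →ₐ[ℤ] MvPolynomial (Fin n) A := MvPolynomial.aeval fun x => l x.1
  have hg : Function.Surjective g := by
    rintro ⟨b, hb⟩
    rw [← hs] at hb
    have e1 : Algebra.adjoin ℤ (s : Set B) ≤ (B₀.val.comp g).range :=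
      Algebra.adjoin_le fun x hx => ⟨MvPolynomial.X ⟨x, hx⟩, by simp [g]⟩
    obtain ⟨p, hp⟩ := e1 hb
    exact ⟨p, Subtype.ext hp⟩
  have hcomp : (π.toRingHom.comp g'.toRingHom) = (algebraMap B₀ B).comp g.toRingHom := by
    apply MvPolynomial.ringHom_ext
    · intro r; simp
    · intro x; simpa [g, g'] using hl x.1
  -- first approximation
  let I₀ : Ideal (MvPolynomial (Fin n) A) := (RingHom.ker g.toRingHom).map g'.toRingHom
  have hI₀ : I₀.FG := Ideal.FG.map (IsNoetherian.noetherian (RingHom.ker g.toRingHom)) g'.toRingHom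
  have hI₀π : I₀ ≤ RingHom.ker π.toRingHom := by
    refine Ideal.map_le_iff_le_comap.2 fun x hx => ?_
    change π.toRingHom.comp g'.toRingHom x = 0
    rw [hcomp, RingHom.comp_apply, show g.toRingHom x = 0 from hx, map_zero]
  let B' := MvPolynomial (Fin n) A ⧸ I₀
  let π' : B' →ₐ[A] B := Ideal.Quotient.liftₐ I₀ π fun x hx => hI₀π hx
  let γ : B₀ →+* B' := RingHom.liftOfSurjective g.toRingHom hg
    ⟨(Ideal.Quotient.mk I₀).comp g'.toRingHom, fun x hx =>
      Ideal.Quotient.eq_zero_iff_mem.2 (Ideal.mem_map_of_mem _ hx)⟩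
  have hγ : ∀ b, π' (γ b) = algebraMap B₀ B b := by
    intro b
    obtain ⟨p, rfl⟩ := hg b
    have : γ (g p) = Ideal.Quotient.mk I₀ (g' p) := RingHom.liftOfRightInverse_comp_apply _ _ _ _ _
    rw [this]
    exact RingHom.congr_fun hcomp p
  let _ : Algebra B₀ B' := γ.toAlgebra
  let π₀ : B' →ₐ[B₀] B := ⟨π'.toRingHom, hγ⟩
  have hπ₀ : Function.Surjective π₀ := fun b => ⟨Ideal.Quotient.mk I₀ (l b), hl b⟩
  let J := RingHom.ker π₀.toRingHom
  have hKJ : K.map (algebraMap B₀ B') ⊔ J = ⊤ := by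
    rw [Ideal.eq_top_iff_one, sup_comm]
    have : (1 : B) ∈ (K.map (algebraMap B₀ B')).map π₀.toRingHom := by
      rw [Ideal.map_map, show π₀.toRingHom.comp (algebraMap B₀ B') = algebraMap B₀ B from
        RingHom.ext hγ, map_eq_top hK B e]
      trivial
    obtain ⟨k, hk, hk1⟩ := (Ideal.mem_map_iff_of_surjective π₀.toRingHom hπ₀).1 this
    exact Submodule.mem_sup.2 ⟨1 - k, by simp [J, RingHom.mem_ker, show π₀ k = 1 from hk1], k, hk, by ring⟩
  have : Algebra.FinitePresentation A B' := .quotient hI₀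
  exact finitePresentation_of_lift e hK π' hγ hπ₀ hKJ

end GrothLib.FppfSource
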